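import Mathlib
import Cfsg.Prelude.Def_JComponents
import Cfsg.Agent.Lib.Helper55.JSubn
import Cfsg.Agent.Lib.Helper2.KS12.PZ
import Cfsg.Agent.Lib.Helper71.JC.JCBasic

set_option autoImplicit false

/-!
# KS12 (helper67): `C_L(⟨Ω₁Z(S)⟩) = C_L(Ω₁Z(O₂(L)))` and FF-min in the shape `hAb`

For `L ∈ jOvergroups T` the centralizer in `L` of `ZW = ⟨Ω₁(Z(S)) | S ∈ Syl₂(L)⟩` centralizes
`V = Ω₁(Z(O₂(L)))`. With helper55's `jComponent_data` this gives: any two `J(T)`-components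
`K₁, K₂ ≤ L` satisfy `[K₁, K₂] ≤ C_L(V)`.
-/

namespace Cfsg.Agent.Lib.Helper67.KS12

open Cfsg.Agent.Lib.Helper71.JC
open Cfsg.Agent.Lib.Helper11 Cfsg.Agent.Lib.Helper11.FFT
open Cfsg.Agent.Lib.Helper2.KS12
open scoped commutatorElement

universe u
variable {G : Type u} [Group G]

/-- the commutator `[v, x]` is fixed by `t` if `x` centralizes `a = v⁻¹ t v t⁻¹` and
`q = x⁻¹ t x t⁻¹` centralizes `a` and `v`. -/
theorem conj_comm_fixed (t v x : G)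
    (hxa : Commute x (v⁻¹ * t * v * t⁻¹))
    (hqa : Commute (x⁻¹ * t * x * t⁻¹) (v⁻¹ * t * v * t⁻¹))
    (hqv : Commute (x⁻¹ * t * x * t⁻¹) v) :
    t * (v * x * v⁻¹ * x⁻¹) * t⁻¹ = v * x * v⁻¹ * x⁻¹ := by
  have h0 : t * (v * x * v⁻¹ * x⁻¹) * t⁻¹
      = (v * (v⁻¹ * t * v * t⁻¹)) * (x * (x⁻¹ * t * x * t⁻¹)) * (v * (v⁻¹ * t * v * t⁻¹))⁻¹
        * (x * (x⁻¹ * t * x * t⁻¹))⁻¹ := by group
  rw [h0]
  generalize v⁻¹ * t * v * t⁻¹ = a at hxa hqa ⊢
  generalize x⁻¹ * t * x * t⁻¹ = q at hqa hqv ⊢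
  have e1 : q * (a⁻¹ * v⁻¹) * q⁻¹ = a⁻¹ * v⁻¹ := by
    rw [(hqa.inv_right.mul_right hqv.inv_right).eq, mul_inv_cancel_right]
  have e2 : a * x * a⁻¹ = x := by
    rw [← hxa.eq, mul_inv_cancel_right]
  calc (v * a) * (x * q) * (v * a)⁻¹ * (x * q)⁻¹
      = v * a * x * (q * (a⁻¹ * v⁻¹) * q⁻¹) * x⁻¹ := by group
    _ = v * a * x * (a⁻¹ * v⁻¹) * x⁻¹ := by rw [e1]
    _ = v * (a * x * a⁻¹) * v⁻¹ * x⁻¹ := by group
    _ = v * x * v⁻¹ * x⁻¹ := by rw [e2]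

/-- **Coprime action with a commuting 2-group.** `T` a finite 2-group, `V ≤ T` normalized by `T`
and of exponent 2, `Q` centralizing `V`; `x` of odd order normalizing `V`, with `[x, T] ⊆ Q`,
and centralizing `C_V(T)`. Then `x` centralizes `V`. -/
theorem centralizes_of_fixed [Finite G] {T V Q : Subgroup G} (hT : IsPGroup 2 ↥T) (hVT : V ≤ T)
    (hTV : T ≤ Subgroup.normalizer (V : Set G)) (hQV : Q ≤ Subgroup.centralizer (V : Set G))
    (hV2 : ∀ v ∈ V, v ^ 2 = 1) {x : G} (hxodd : Odd (orderOf x))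
    (hxV : x ∈ Subgroup.normalizer (V : Set G))
    (hxT : ∀ t ∈ T, x⁻¹ * t * x * t⁻¹ ∈ Q)
    (hfix : ∀ u ∈ V, (∀ t ∈ T, t * u = u * t) → x * u = u * x) :
    ∀ v ∈ V, x * v = v * x := by
  have : Fact (Nat.Prime 2) := ⟨Nat.prime_two⟩
  have hnil : Group.IsNilpotent ↥T := hT.isNilpotent
  obtain ⟨n, hn⟩ := Group.IsNilpotent.nilpotent ↥T
  have key : ∀ i : ℕ, ∀ v (hv : v ∈ V),
      (⟨v, hVT hv⟩ : ↥T) ∈ Subgroup.upperCentralSeries ↥T i → x * v = v * x := by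
    intro i
    induction i with
    | zero =>
      intro v hv hmem
      rw [Subgroup.upperCentralSeries_zero, Subgroup.mem_bot] at hmem
      have : v = 1 := congrArg Subtype.val hmem
      rw [this]; simp
    | succ i ih =>
      intro v hv hmem
      -- `a_t = v⁻¹ t v t⁻¹ ∈ V ∩ Z_i`
      have haV : ∀ t ∈ T, v⁻¹ * t * v * t⁻¹ ∈ V := by
        intro t ht
        have h1 : t * v * t⁻¹ ∈ V := (Subgroup.mem_normalizer_iff.mp (hTV ht) v).mp hv
        have h2 : v⁻¹ * t * v * t⁻¹ = v⁻¹ * (t * v * t⁻¹) := by group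
        rw [h2]; exact V.mul_mem (V.inv_mem hv) h1
      have hxa : ∀ t ∈ T, Commute x (v⁻¹ * t * v * t⁻¹) := by
        intro t ht
        apply ih _ (haV t ht)
        have hinv : (⟨v, hVT hv⟩ : ↥T)⁻¹ ∈ Subgroup.upperCentralSeries ↥T (i + 1) :=
          Subgroup.inv_mem _ hmem
        have h3 := (Subgroup.mem_upperCentralSeries_succ_iff.mp hinv) ⟨t, ht⟩
        have h4 : (⟨v⁻¹ * t * v * t⁻¹, hVT (haV t ht)⟩ : ↥T)
            = ⁅(⟨v, hVT hv⟩ : ↥T)⁻¹, ⟨t, ht⟩⁆ := by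
          apply Subtype.ext
          simp [commutatorElement_def]
        rw [h4]; exact h3
      -- `u = [v, x] ∈ V`
      have huV : v * x * v⁻¹ * x⁻¹ ∈ V := by
        have h1 : x * v⁻¹ * x⁻¹ ∈ V :=
          (Subgroup.mem_normalizer_iff.mp hxV v⁻¹).mp (V.inv_mem hv)
        have h2 : v * x * v⁻¹ * x⁻¹ = v * (x * v⁻¹ * x⁻¹) := by group
        rw [h2]; exact V.mul_mem hv h1
      -- `u` is centralized by `T`
      have huT : ∀ t ∈ T, t * (v * x * v⁻¹ * x⁻¹) = (v * x * v⁻¹ * x⁻¹) * t := by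
        intro t ht
        have hq := hxT t ht
        have hqc := Subgroup.mem_centralizer_iff.mp (hQV hq)
        have hqa : Commute (x⁻¹ * t * x * t⁻¹) (v⁻¹ * t * v * t⁻¹) :=
          (hqc _ (haV t ht)).symm
        have hqv : Commute (x⁻¹ * t * x * t⁻¹) v := (hqc _ hv).symm
        have h5 := conj_comm_fixed t v x (hxa t ht) hqa hqv
        calc t * (v * x * v⁻¹ * x⁻¹) = (t * (v * x * v⁻¹ * x⁻¹) * t⁻¹) * t := by group
          _ = (v * x * v⁻¹ * x⁻¹) * t := by rw [h5]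
      have hxu : Commute x (v * x * v⁻¹ * x⁻¹) := hfix _ huV huT
      -- `u ^ orderOf x = 1`
      have hux : (v * x * v⁻¹ * x⁻¹) * x = v * x * v⁻¹ := by group
      have hpow : (v * x * v⁻¹) ^ orderOf x = 1 := by
        have h6 : (v * x * v⁻¹) ^ orderOf x = v * x ^ orderOf x * v⁻¹ := by
          rw [conj_pow]
        rw [h6, pow_orderOf_eq_one]; group
      have hun : (v * x * v⁻¹ * x⁻¹) ^ orderOf x = 1 := by
        have h7 := hxu.symm.mul_pow (orderOf x)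
        rw [hux, hpow, pow_orderOf_eq_one, mul_one] at h7
        exact h7.symm
      have hu2 : (v * x * v⁻¹ * x⁻¹) ^ 2 = 1 := hV2 _ huV
      have hu1 : v * x * v⁻¹ * x⁻¹ = 1 := by
        obtain ⟨m, hm⟩ := hxodd
        rw [hm, pow_succ, pow_mul, hu2, one_pow, one_mul] at hun
        exact hun
      have h8 : v * x = (v * x * v⁻¹ * x⁻¹) * (x * v) := by group
      rw [hu1, one_mul] at h8
      exact h8.symm
  intro v hv
  apply key n v hv
  rw [hn]; exact Subgroup.mem_top _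

/-- A 2-element of `L` normalizing a Sylow 2-subgroup `T` of `L` lies in `T`. -/
theorem mem_of_normalizes_of_two_pow [Finite G] {T L : Subgroup G} (hT : Cfsg.IsSylowTwoIn T L)
    {g : G} (hgL : g ∈ L) (hgT : g ∈ Subgroup.normalizer (T : Set G)) {k : ℕ}
    (hg : g ^ (2 ^ k) = 1) : g ∈ T := by
  have hZ2 : IsPGroup 2 ↥(Subgroup.zpowers g) := by
    rintro ⟨y, hy⟩
    obtain ⟨i, rfl⟩ := Subgroup.mem_zpowers_iff.mp hy
    refine ⟨k, ?_⟩
    apply Subtype.ext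
    show (g ^ i) ^ (2 ^ k) = 1
    rw [← zpow_natCast, ← zpow_mul, mul_comm, zpow_mul, zpow_natCast, hg, one_zpow]
  have hle : Subgroup.zpowers g ≤ Subgroup.normalizer (T : Set G) := by
    rw [Subgroup.zpowers_le]; exact hgT
  have hP : IsPGroup 2 ↥(Subgroup.zpowers g ⊔ T : Subgroup G) :=
    IsPGroup.to_sup_of_normal_right' hZ2 hT.2.1 hle
  have hPL : Subgroup.zpowers g ⊔ T ≤ L := sup_le (by rw [Subgroup.zpowers_le]; exact hgL) hT.1
  have := le_of_isSylowTwoIn_of_le hT hP le_sup_right hPL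
  exact this ((le_sup_left : Subgroup.zpowers g ≤ _) (Subgroup.mem_zpowers g))

/-- If `N ≤ L` is normal in `L` and normalizes the Sylow 2-subgroup `T` of `L`, then
`N ∩ T ≤ O₂(L)`. -/
theorem inf_le_pCoreOf_of_normalizes [Finite G] {T L N : Subgroup G} (hT : Cfsg.IsSylowTwoIn T L)
    (hNL : N ≤ L) (hLN : L ≤ Subgroup.normalizer (N : Set G))
    (hNT : N ≤ Subgroup.normalizer (T : Set G)) : N ⊓ T ≤ Cfsg.pCoreOf 2 L := by
  apply Cfsg.Agent.Lib.Helper85.KS12.le_pCoreOf_of_normal (hT.2.1.to_le inf_le_right)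
    (inf_le_left.trans hNL)
  apply Cfsg.Agent.Lib.Helper53.le_normalizer_of_conj_mem
  intro l hl m hm
  obtain ⟨hmN, hmT⟩ := Subgroup.mem_inf.mp hm
  have h1 : l * m * l⁻¹ ∈ N := (Subgroup.mem_normalizer_iff.mp (hLN hl) m).mp hmN
  refine Subgroup.mem_inf.mpr ⟨h1, ?_⟩
  obtain ⟨k, hk⟩ := hT.2.1 ⟨m, hmT⟩
  have hk' : m ^ (2 ^ k) = 1 := by
    have := congrArg Subtype.val hk
    simpa using this
  have h2 : (l * m * l⁻¹) ^ (2 ^ k) = 1 := by
    rw [conj_pow, hk']; group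
  exact mem_of_normalizes_of_two_pow hT (L.mul_mem (L.mul_mem hl (hT.1 hmT)) (L.inv_mem hl))
    (hNT h1) h2

variable [Finite G]

/-- **Bridge.** For `L ∈ jOvergroups T`: the centralizer in `L` of `ZW = ⟨Ω₁Z(S) | S ∈ Syl₂(L)⟩`
centralizes `V = Ω₁(Z(O₂(L)))`. -/
theorem centralizer_ZW_le_centralizer_VL {T L : Subgroup G}
    (hZ : ∀ S : Sylow 2 G, Subgroup.centralizer (Cfsg.omegaCenterOf (S : Subgroup G) : Set G) ≤
      Subgroup.normalizer ((S : Subgroup G) : Set G))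
    (hLT : L ∈ Cfsg.jOvergroups T) (c : ↥L)
    (hc : c ∈ Subgroup.centralizer ((ZW 2 ↥L : Subgroup ↥L) : Set ↥L)) :
    (c : G) ∈ Subgroup.centralizer (VL L : Set G) := by
  have hsyl := hLT.1
  have hT2 : IsPGroup 2 ↥T := hsyl.2.1
  have hTL : T ≤ L := hsyl.1
  -- the subgroup `C' = C_L(ZW)` of `G`
  obtain ⟨C', hC'⟩ : ∃ C' : Subgroup G, C' =
      (Subgroup.centralizer ((ZW 2 ↥L : Subgroup ↥L) : Set ↥L)).map L.subtype := ⟨_, rfl⟩
  have hCn : (Subgroup.centralizer ((ZW 2 ↥L : Subgroup ↥L) : Set ↥L)).Normal :=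
    Subgroup.normal_centralizer
  have hC'L : C' ≤ L := by
    rw [hC']; rintro _ ⟨y, -, rfl⟩; exact y.2
  have hLC' : L ≤ Subgroup.normalizer (C' : Set G) := by
    rw [hC']; exact Cfsg.Agent.Lib.Helper55.JComp.le_normalizer_map_subtype _ hCn
  have hC'T : C' ≤ Subgroup.normalizer (T : Set G) := by
    rw [hC']; rintro _ ⟨y, hy, rfl⟩
    exact Cfsg.Agent.Lib.Helper55.JComp.centralizer_ZW_le_normalizer hZ hLT y hy
  have hC'Q : C' ⊓ T ≤ Cfsg.pCoreOf 2 L := inf_le_pCoreOf_of_normalizes hsyl hC'L hLC' hC'T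
  have hQV : Cfsg.pCoreOf 2 L ≤ Subgroup.centralizer (VL L : Set G) :=
    (pCoreOf_le_CL L).trans (CL_le_centralizer L)
  have hcC' : (c : G) ∈ C' := by rw [hC']; exact ⟨c, hc, rfl⟩
  -- fixed points of `T` on `V` lie in `ZW`
  obtain ⟨P, hP⟩ := Cfsg.Agent.Lib.Helper55.JComp.exists_sylow hsyl
  have hfixZW : ∀ u ∈ VL L, (∀ t ∈ T, t * u = u * t) → ∀ y ∈ C', y * u = u * y := by
    intro u hu hut y hy
    have huT : u ∈ T := VL_le_of_isSylowTwoIn hsyl hu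
    have huL : u ∈ L := hTL huT
    have hmem : (⟨u, huL⟩ : ↥L) ∈ ZW 2 ↥L := by
      apply (le_iSup (fun S : Sylow 2 ↥L => Cfsg.omegaOne 2 ((S : Subgroup ↥L) ⊓
        Subgroup.centralizer ((S : Subgroup ↥L) : Set ↥L))) P)
      apply Subgroup.subset_closure
      refine ⟨Subgroup.mem_inf.mpr ⟨?_, ?_⟩, ?_⟩
      · rw [hP]; exact Subgroup.mem_subgroupOf.mpr huT
      · rw [Subgroup.mem_centralizer_iff]
        intro z hz
        rw [SetLike.mem_coe, hP, Subgroup.mem_subgroupOf] at hz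
        apply Subtype.ext
        exact hut _ hz
      · apply Subtype.ext
        simpa using omegaCenterOf_sq _ hu
    rw [hC'] at hy
    obtain ⟨y', hy', rfl⟩ := hy
    have h2 := Subgroup.mem_centralizer_iff.mp hy' _ hmem
    have h3 : u * (y' : G) = (y' : G) * u := congrArg Subtype.val h2
    exact h3.symm
  -- decompose the order of `c`
  have hpos : orderOf (c : G) ≠ 0 := (orderOf_pos (c : G)).ne'
  obtain ⟨k, m, hm, hkm⟩ := Nat.exists_eq_two_pow_mul_odd hpos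
  -- the 2-part
  have h2part : (c : G) ^ m ∈ Subgroup.centralizer (VL L : Set G) := by
    have h1 : ((c : G) ^ m) ^ (2 ^ k) = 1 := by
      rw [← pow_mul, mul_comm, ← hkm, pow_orderOf_eq_one]
    have h2 : (c : G) ^ m ∈ C' := C'.pow_mem hcC' m
    have h3 : (c : G) ^ m ∈ T :=
      mem_of_normalizes_of_two_pow hsyl (hC'L h2) (hC'T h2) h1
    exact hQV (hC'Q (Subgroup.mem_inf.mpr ⟨h2, h3⟩))
  -- the odd part
  have hoddpart : (c : G) ^ (2 ^ k) ∈ Subgroup.centralizer (VL L : Set G) := by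
    have hx : (c : G) ^ (2 ^ k) ∈ C' := C'.pow_mem hcC' _
    have hxodd : Odd (orderOf ((c : G) ^ (2 ^ k))) := by
      have h1 : ((c : G) ^ (2 ^ k)) ^ m = 1 := by
        rw [← pow_mul, ← hkm, pow_orderOf_eq_one]
      exact hm.of_dvd_nat (orderOf_dvd_of_pow_eq_one h1)
    have hxT : ∀ t ∈ T, ((c : G) ^ (2 ^ k))⁻¹ * t * (c : G) ^ (2 ^ k) * t⁻¹ ∈ Cfsg.pCoreOf 2 L := by
      intro t ht
      apply hC'Q
      refine Subgroup.mem_inf.mpr ⟨?_, ?_⟩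
      · have h1 : t * (c : G) ^ (2 ^ k) * t⁻¹ ∈ C' :=
          (Subgroup.mem_normalizer_iff.mp (hLC' (hTL ht)) _).mp hx
        have h2 : ((c : G) ^ (2 ^ k))⁻¹ * t * (c : G) ^ (2 ^ k) * t⁻¹
            = ((c : G) ^ (2 ^ k))⁻¹ * (t * (c : G) ^ (2 ^ k) * t⁻¹) := by group
        rw [h2]; exact C'.mul_mem (C'.inv_mem hx) h1
      · have h1 : ((c : G) ^ (2 ^ k))⁻¹ * t * (((c : G) ^ (2 ^ k))⁻¹)⁻¹ ∈ T :=
          (Subgroup.mem_normalizer_iff.mp (hC'T (C'.inv_mem hx)) t).mp ht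
        rw [inv_inv] at h1
        exact T.mul_mem h1 (T.inv_mem ht)
    have hcent := centralizes_of_fixed hT2 (VL_le_of_isSylowTwoIn hsyl)
      (hTL.trans (le_normalizer_VL L)) hQV (fun v hv => omegaCenterOf_sq _ hv) hxodd
      (le_normalizer_VL L (hC'L hx)) hxT (fun u hu hut => hfixZW u hu hut _ hx)
    rw [Subgroup.mem_centralizer_iff]
    intro v hv
    exact (hcent v hv).symm
  have hcop : Nat.Coprime (2 ^ k) m := Nat.Coprime.pow_left k (Nat.coprime_two_left.mpr hm)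
  exact mem_of_pow_mem_coprime hcop hoddpart h2part

/-- **FF-min in the shape `hAb`** (closed): any two `J(T)`-components inside `L ∈ jOvergroups T`
commute modulo `C_L(V)`, `V = Ω₁(Z(O₂(L)))`. -/
theorem hAb_closed (hL : Cfsg.IsCharacteristicTwoType G)
    (hN : ∀ N : Subgroup G, Cfsg.IsTwoLocal N → Group.IsSolvable ↥N)
    (hZ : ∀ S : Sylow 2 G, Subgroup.centralizer (Cfsg.omegaCenterOf (S : Subgroup G) : Set G) ≤
      Subgroup.normalizer ((S : Subgroup G) : Set G))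
    (T : Subgroup G) (hT : IsPGroup 2 ↥T) (hT1 : T ≠ ⊥) (L : Subgroup G)
    (hLT : L ∈ Cfsg.jOvergroups T) :
    ∀ K1 K2 : Subgroup G, Cfsg.IsJComponent T K1 → Cfsg.IsJComponent T K2 → K1 ≤ L → K2 ≤ L →
      ⁅K1, K2⁆ ≤ L ⊓ Subgroup.centralizer (Cfsg.omegaCenterOf (Cfsg.pCoreOf 2 L) : Set G) := by
  intro K1 K2 hK1 hK2 hK1L hK2L
  obtain ⟨O, hOn, hcomm, hdata⟩ :=
    Cfsg.Agent.Lib.Helper55.JComp.jComponent_data hL hN hZ T hT hT1 L hLT
  have h1 := (hdata K1 hK1 hK1L).1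
  have h2 := (hdata K2 hK2 hK2L).1
  rw [Subgroup.commutator_le]
  intro k1 hk1 k2 hk2
  have hk1O : (⟨k1, hK1L hk1⟩ : ↥L) ∈ O := h1 (Subgroup.mem_subgroupOf.mpr hk1)
  have hk2O : (⟨k2, hK2L hk2⟩ : ↥L) ∈ O := h2 (Subgroup.mem_subgroupOf.mpr hk2)
  have hpsi : psi (ZW 2 ↥L) ⁅(⟨k1, hK1L hk1⟩ : ↥L), ⟨k2, hK2L hk2⟩⁆ = 1 := by
    rw [commutatorElement_def, map_mul, map_mul, map_mul, map_inv, map_inv,
      hcomm _ hk1O _ hk2O]
    group
  have hker : ⁅(⟨k1, hK1L hk1⟩ : ↥L), ⟨k2, hK2L hk2⟩⁆ ∈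
      Subgroup.centralizer ((ZW 2 ↥L : Subgroup ↥L) : Set ↥L) := by
    rw [← psi_ker]; exact hpsi
  have hbr := centralizer_ZW_le_centralizer_VL hZ hLT _ hker
  have hval : ((⁅(⟨k1, hK1L hk1⟩ : ↥L), ⟨k2, hK2L hk2⟩⁆ : ↥L) : G) = ⁅k1, k2⁆ := by
    simp [commutatorElement_def]
  rw [hval] at hbr
  refine Subgroup.mem_inf.mpr ⟨?_, hbr⟩
  rw [← hval]; exact Subtype.mem _

end Cfsg.Agent.Lib.Helper67.KS12
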